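import Mathlib.RingTheory.Ideal.Pointwise
import Mathlib.FieldTheory.SeparableClosure
import Mathlib.FieldTheory.PurelyInseparable.PerfectClosure
import Mathlib.Algebra.Polynomial.GroupRingAction
import Mathlib.Algebra.Polynomial.Expand
import Mathlib.LinearAlgebra.LinearIndependent.Basic
import Mathlib.RingTheory.Ideal.Maximal
import Mathlib.GroupTheory.GroupAction.Quotient

/-!
# Residues of invariants: separability
-/

open Polynomial
open scoped Pointwise

universe u v

namespace Groth.Agent.ResSepH28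

set_option linter.unusedSectionVars false

variable {B : Type u} [CommRing B] {Γ : Type v} [Group Γ] [Finite Γ] [MulSemiringAction Γ B]
variable (P : Ideal B) [hP : P.IsMaximal]

attribute [local instance] Ideal.Quotient.field

/-- Residues of the `H`-invariant elements. -/
noncomputable def resField (H : Subgroup Γ) : Subfield (B ⧸ P) where
  carrier := {z | ∃ b : B, (∀ h ∈ H, h • b = b) ∧ Ideal.Quotient.mk P b = z}
  mul_mem' := fun {x y} ⟨a, ha, ha'⟩ ⟨b, hb, hb'⟩ =>
    ⟨a * b, fun h hh => by rw [smul_mul', ha h hh, hb h hh], by rw [map_mul, ha', hb']⟩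
  one_mem' := ⟨1, fun h _ => smul_one h, map_one _⟩
  add_mem' := fun {x y} ⟨a, ha, ha'⟩ ⟨b, hb, hb'⟩ =>
    ⟨a + b, fun h hh => by rw [smul_add, ha h hh, hb h hh], by rw [map_add, ha', hb']⟩
  zero_mem' := ⟨0, fun h _ => smul_zero h, map_zero _⟩
  neg_mem' := fun {x} ⟨a, ha, ha'⟩ => ⟨-a, fun h hh => by rw [smul_neg, ha h hh], by rw [map_neg, ha']⟩
  inv_mem' := by
    classical
    rintro _ ⟨a, ha, rfl⟩
    rcases eq_or_ne (Ideal.Quotient.mk P a) 0 with h0 | h0
    · exact ⟨0, fun h _ => smul_zero h, by rw [h0, inv_zero, map_zero]⟩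
    obtain ⟨c, hc⟩ := Ideal.Quotient.mk_surjective (Ideal.Quotient.mk P a)⁻¹
    haveI := Fintype.ofFinite H
    let f : B[X] := ∏ h : H, (X - C ((h : Γ) • c))
    have hf : ∀ h ∈ H, h • f = f := fun g hg => by
      simp only [f, Finset.smul_prod', smul_sub, Polynomial.smul_X, Polynomial.smul_C, smul_smul]
      exact Fintype.prod_equiv (Equiv.mulLeft (⟨g, hg⟩ : H)) _ _ fun h => rfl
    have hmon : f.Monic := monic_prod_of_monic _ _ fun h _ => monic_X_sub_C _
    have hdeg : f.natDegree = Fintype.card H := by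
      rcases subsingleton_or_nontrivial B with hB | hB
      · exact absurd (Ideal.Quotient.eq_zero_iff_mem.2 (Subsingleton.elim a 0 ▸ P.zero_mem)) h0
      · simp [f]
    have hroot : f.eval c = 0 := by
      simp only [f, eval_prod]
      exact Finset.prod_eq_zero (Finset.mem_univ (1 : H)) (by simp)
    have hn : 0 < f.natDegree := hdeg ▸ Fintype.card_pos
    refine ⟨-∑ i ∈ Finset.range f.natDegree, f.coeff i * a ^ (f.natDegree - 1 - i), fun h hh => ?_, ?_⟩
    · simp only [smul_neg, Finset.smul_sum, smul_mul', smul_pow', ha h hh]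
      congr 1
      refine Finset.sum_congr rfl fun i _ => ?_
      rw [← Polynomial.coeff_smul, hf h hh]
    · have h1 := congrArg (Ideal.Quotient.mk P) hroot
      rw [eval_eq_sum_range, Finset.sum_range_succ, map_add, map_zero, hmon.coeff_natDegree, one_mul,
        map_pow, hc] at h1
      have h2 := eq_neg_of_add_eq_zero_right h1
      set α := Ideal.Quotient.mk P a
      have h3 : α⁻¹ = α⁻¹ ^ f.natDegree * α ^ (f.natDegree - 1) := by
        conv_rhs => rw [← Nat.sub_add_cancel hn, pow_succ', Nat.add_sub_cancel, mul_assoc, ← mul_pow,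
          inv_mul_cancel₀ h0, one_pow, mul_one]
      rw [h3, h2, map_neg, neg_mul, map_sum, map_sum, Finset.sum_mul]
      congr 1
      refine Finset.sum_congr rfl fun i hi => ?_
      have hi' : i ≤ f.natDegree - 1 := Nat.le_sub_one_of_lt (Finset.mem_range.1 hi)
      obtain ⟨j, hj⟩ := Nat.exists_eq_add_of_le hi'
      rw [map_mul, map_mul, map_pow, map_pow, hc, hj, Nat.add_sub_cancel_left, pow_add, mul_assoc,
        ← mul_assoc (α⁻¹ ^ i), ← mul_pow, inv_mul_cancel₀ h0, one_pow, one_mul]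

lemma mem_resField {H : Subgroup Γ} {z : B ⧸ P} :
    z ∈ resField P H ↔ ∃ b : B, (∀ h ∈ H, h • b = b) ∧ Ideal.Quotient.mk P b = z := Iff.rfl

lemma inertia_le_stabilizer : P.inertia Γ ≤ MulAction.stabilizer Γ P := Ideal.inertia_le_stabilizer P

lemma mk_smul_eq {γ : Γ} (hγ : γ ∈ MulAction.stabilizer Γ P) {x y : B}
    (h : Ideal.Quotient.mk P x = Ideal.Quotient.mk P y) :
    Ideal.Quotient.mk P (γ • x) = Ideal.Quotient.mk P (γ • y) := by
  rw [Ideal.Quotient.eq] at h ⊢
  rw [← smul_sub]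
  have := Ideal.smul_mem_pointwise_smul γ _ _ h
  rwa [MulAction.mem_stabilizer_iff.1 hγ] at this

lemma mk_smul_inertia {γ : Γ} (hγ : γ ∈ P.inertia Γ) (x : B) :
    Ideal.Quotient.mk P (γ • x) = Ideal.Quotient.mk P x :=
  Ideal.Quotient.eq.2 (hγ x)

/-- Sum over the cosets. -/
noncomputable def cosetSum (K L : Subgroup Γ) (w : B) : B :=
  ∑ᶠ c : L ⧸ K.subgroupOf L, ((c.out : L) : Γ) • w

lemma smul_cosetSum {K L : Subgroup Γ} {w : B} (hw : ∀ g ∈ K, g • w = w) {δ : Γ} (hδ : δ ∈ L) :
    δ • cosetSum K L w = cosetSum K L w := by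
  haveI := Fintype.ofFinite (L ⧸ K.subgroupOf L)
  rw [cosetSum, finsum_eq_sum_of_fintype, Finset.smul_sum]
  refine Fintype.sum_equiv (MulAction.toPerm (⟨δ, hδ⟩ : L)) _ _ fun c => ?_
  rw [smul_smul]
  set d := ((⟨δ, hδ⟩ : L) • c)
  have h1 : (QuotientGroup.mk ((⟨δ, hδ⟩ : L) * c.out) : L ⧸ K.subgroupOf L) = QuotientGroup.mk d.out := by
    conv_rhs => rw [QuotientGroup.out_eq']
    show _ = (⟨δ, hδ⟩ : L) • c
    conv_rhs => rw [← QuotientGroup.out_eq' c]
    rfl
  have hk := QuotientGroup.eq.1 h1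
  rw [Subgroup.mem_subgroupOf] at hk
  have := hw _ hk
  show (δ * (c.out : Γ)) • w = (d.out : Γ) • w
  conv_lhs => rw [← this, smul_smul]
  congr 1
  simp only [Subgroup.coe_mul, InvMemClass.coe_inv]
  group

lemma exists_lift_pow :
    ∃ q r : ℕ, ((r : ℕ) : B ⧸ P) ≠ 0 ∧ Function.Injective (fun z : B ⧸ P => z ^ q) ∧
      (∃ n, q = ringExpChar (B ⧸ P) ^ n) ∧
      ∀ z : B, ∃ w : B, (∀ t ∈ P.inertia Γ, t • w = w) ∧
        Ideal.Quotient.mk P w = (r : B ⧸ P) * Ideal.Quotient.mk P z ^ q := by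
  classical
  let L := B ⧸ P
  let T := P.inertia Γ
  haveI := Fintype.ofFinite T
  set p := ringExpChar L
  haveI : ExpChar L p := inferInstance
  obtain ⟨v, r, hr, hn⟩ : ∃ v r : ℕ, ((r : ℕ) : L) ≠ 0 ∧ Fintype.card T = p ^ v * r := by
    obtain ⟨c, hc⟩ := CharP.exists L
    rcases CharP.char_is_prime_or_zero L c with hp | rfl
    swap
    · haveI := CharP.charP_to_charZero L
      exact ⟨0, Fintype.card T, Nat.cast_ne_zero.2 Fintype.card_ne_zero, by simp⟩
    · obtain rfl : p = c := by
        haveI : ExpChar L c := ExpChar.prime hp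
        exact ExpChar.eq (R := L) inferInstance inferInstance
      obtain ⟨v, r, hr, hn⟩ := Nat.exists_eq_pow_mul_and_not_dvd (Fintype.card_ne_zero (α := T)) p hp.ne_one
      exact ⟨v, r, fun h => hr ((CharP.cast_eq_zero_iff L p r).1 h), hn⟩
  refine ⟨p ^ v, r, hr, fun a b h => iterateFrobenius_inj L p v (by simpa [iterateFrobenius_def] using h), ⟨v, rfl⟩, fun z => ?_⟩
  let f : B[X] := ∏ t : T, (X - C ((t : Γ) • z))
  have hf : ∀ t ∈ T, t • f = f := fun g hg => by
    simp only [f, Finset.smul_prod', smul_sub, Polynomial.smul_X, Polynomial.smul_C, smul_smul]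
    exact Fintype.prod_equiv (Equiv.mulLeft (⟨g, hg⟩ : T)) _ _ fun h => rfl
  refine ⟨-f.coeff (p ^ v * (r - 1)), fun t ht => by rw [smul_neg, ← Polynomial.coeff_smul, hf t ht], ?_⟩
  have hr1 : 1 ≤ r := Nat.pos_of_ne_zero fun h => hr (by simp [h])
  have hmap : f.map (Ideal.Quotient.mk P) =
      Polynomial.expand L (p ^ v) ((X + C (-(Ideal.Quotient.mk P z ^ p ^ v))) ^ r) := by
    simp only [f, Polynomial.map_prod, Polynomial.map_sub, map_X, map_C]
    rw [Finset.prod_congr rfl (g := fun _ : T => X - C (Ideal.Quotient.mk P z))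
      fun (t : T) _ => by rw [mk_smul_inertia P t.2]]
    rw [Finset.prod_const, Finset.card_univ, hn, pow_mul, sub_pow_expChar_pow, map_pow, map_add, expand_X,
      expand_C, map_neg, ← sub_eq_add_neg, map_pow]
  have h1 : Ideal.Quotient.mk P (f.coeff (p ^ v * (r - 1))) =
      ((X + C (-(Ideal.Quotient.mk P z ^ p ^ v))) ^ r).coeff (r - 1) := by
    rw [← Polynomial.coeff_map, hmap, coeff_expand_mul' (pow_pos (expChar_pos L p) v)]
  rw [map_neg, h1, coeff_X_add_C_pow, Nat.sub_sub_self hr1, pow_one, Nat.choose_symm hr1, Nat.choose_one_right]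
  ring

lemma isSeparable_of_fixed (n : ℕ) :
    ∀ (H : Subgroup Γ) (v : B), Nat.card Γ ≤ Nat.card H + n → P.inertia Γ ≤ H →
      H ≤ MulAction.stabilizer Γ P → (∀ h ∈ H, h • v = v) →
        IsSeparable (resField P (⊤ : Subgroup Γ)) (Ideal.Quotient.mk P v) := by
  classical
  induction n using Nat.strong_induction_on with
  | _ n ih =>
  intro H v hcard hTH hHD hv
  set k₀ := resField P (⊤ : Subgroup Γ)
  set x := Ideal.Quotient.mk P v with hx
  by_cases hstab : ∀ γ ∈ MulAction.stabilizer Γ P, Ideal.Quotient.mk P (γ • v) = x → γ ∈ H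
  · -- a simple root
    rcases eq_or_ne x 0 with h0 | h0
    · rw [h0, ← map_zero (algebraMap k₀ (B ⧸ P))]
      exact isSeparable_algebraMap 0
    haveI := Fintype.ofFinite Γ
    haveI := Fintype.ofFinite H
    haveI := Fintype.ofFinite (Γ ⧸ H)
    have hsep : ∀ γ : Γ, γ ∉ MulAction.stabilizer Γ P → ∃ a ∈ γ • P, a ∉ P := by
      intro γ hγ
      by_contra hall
      push Not at hall
      refine hγ (MulAction.mem_stabilizer_iff.2 ?_)
      haveI : (γ • P).IsMaximal := by
        rw [Ideal.pointwise_smul_eq_comap]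
        exact Ideal.comap_isMaximal_of_surjective _ (MulSemiringAction.toRingEquiv Γ B γ⁻¹).surjective
      exact Ideal.IsMaximal.eq_of_le inferInstance hP.ne_top fun a ha => hall a ha
    choose! sep hsep1 hsep2 using hsep
    obtain ⟨a₀, ha₀, ha₀'⟩ : ∃ a : B, (∀ γ ∉ MulAction.stabilizer Γ P, a ∈ γ • P) ∧ a ∉ P := by
      refine ⟨∏ γ ∈ Finset.univ.filter (fun γ => γ ∉ MulAction.stabilizer Γ P), sep γ, fun γ hγ => ?_, ?_⟩
      · exact Ideal.mem_of_dvd _ (Finset.dvd_prod_of_mem sep (Finset.mem_filter.2 ⟨Finset.mem_univ _, hγ⟩)) (hsep1 γ hγ)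
      · rw [hP.isPrime.prod_mem_iff]
        rintro ⟨γ, hγ, hmem⟩
        exact hsep2 γ (by simpa using hγ) hmem
    obtain ⟨d, hd⟩ := Ideal.Quotient.mk_surjective (Ideal.Quotient.mk P a₀)⁻¹
    have ha₁ : Ideal.Quotient.mk P (a₀ * d) = 1 := by
      rw [map_mul, hd, mul_inv_cancel₀ fun h => ha₀' (Ideal.Quotient.eq_zero_iff_mem.1 h)]
    let b : B := ∏ h : H, (h : Γ) • (a₀ * d)
    have hbH : ∀ h ∈ H, h • b = b := fun g hg => by
      simp only [b, Finset.smul_prod', smul_smul]
      exact Fintype.prod_equiv (Equiv.mulLeft (⟨g, hg⟩ : H)) _ _ fun h => rfl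
    have hb1 : Ideal.Quotient.mk P b = 1 := by
      rw [map_prod]
      refine Finset.prod_eq_one fun h _ => ?_
      rw [mk_smul_eq P (hHD h.2) (ha₁.trans (map_one _).symm), smul_one, map_one]
    have hbP : ∀ γ ∉ MulAction.stabilizer Γ P, b ∈ γ • P := fun γ hγ =>
      Ideal.mem_of_dvd _ (Finset.dvd_prod_of_mem _ (Finset.mem_univ (1 : H)))
        (by simpa using Ideal.mul_mem_right d _ (ha₀ γ hγ))
    let v' := b * v
    have hv' : ∀ h ∈ H, h • v' = v' := fun h hh => by rw [smul_mul', hbH h hh, hv h hh]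
    have hxv : Ideal.Quotient.mk P v' = x := by rw [map_mul, hb1, one_mul]
    let g : Γ ⧸ H → B := Quotient.lift (fun γ => γ • v') fun γ δ h => by
      have := hv' _ (QuotientGroup.leftRel_apply.1 h)
      show γ • v' = δ • v'
      conv_lhs => rw [← this, smul_smul, mul_inv_cancel_left]
    have hg : ∀ γ : Γ, g (QuotientGroup.mk γ) = γ • v' := fun γ => rfl
    let f : B[X] := ∏ c : Γ ⧸ H, (X - C (g c))
    have hf : ∀ γ : Γ, γ • f = f := fun γ => by
      simp only [f, Finset.smul_prod', smul_sub, Polynomial.smul_X, Polynomial.smul_C]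
      refine Fintype.prod_equiv (MulAction.toPerm γ) _ _ fun c => ?_
      induction c using QuotientGroup.induction_on with
      | _ δ => rw [MulAction.toPerm_apply, MulAction.Quotient.smul_mk, hg, hg, smul_smul, smul_eq_mul]
    obtain ⟨F, hF⟩ : ∃ F : k₀[X], F.map (algebraMap k₀ (B ⧸ P)) = f.map (Ideal.Quotient.mk P) := by
      refine (Polynomial.mem_lifts _).1 ((Polynomial.lifts_iff_coeff_lifts _).2 fun i => ?_)
      refine ⟨⟨_, f.coeff i, fun γ _ => by rw [← Polynomial.coeff_smul, hf], rfl⟩, ?_⟩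
      rw [Polynomial.coeff_map]
      rfl
    have hroot : aeval x F = 0 := by
      rw [aeval_def, ← eval_map, hF]
      simp only [f, Polynomial.map_prod, Polynomial.map_sub, map_X, map_C, eval_prod]
      exact Finset.prod_eq_zero (Finset.mem_univ (QuotientGroup.mk (1 : Γ))) (by simp [hg, hxv])
    have hder : aeval x (derivative F) ≠ 0 := by
      rw [aeval_def, ← eval_map, ← Polynomial.derivative_map, hF]
      simp only [f, Polynomial.map_prod, Polynomial.map_sub, map_X, map_C]
      rw [← Finset.mul_prod_erase Finset.univ _ (Finset.mem_univ (QuotientGroup.mk (1 : Γ) : Γ ⧸ H)), derivative_mul,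
        derivative_X_sub_C, eval_add, eval_mul, eval_mul, eval_one, one_mul, eval_sub, eval_X, eval_C, hg,
        one_smul, hxv, sub_self, zero_mul, add_zero, eval_prod, Finset.prod_ne_zero_iff]
      intro c hc
      rw [eval_sub, eval_X, eval_C, sub_ne_zero]
      induction c using QuotientGroup.induction_on with
      | _ γ =>
        rw [hg]
        intro heq
        by_cases hγ : γ ∈ MulAction.stabilizer Γ P
        · have : Ideal.Quotient.mk P (γ • v) = x := by
            rw [← mk_smul_eq P hγ hxv]; exact heq.symm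
          exact (Finset.mem_erase.1 hc).1 (QuotientGroup.eq.2 (by simpa using hstab γ hγ this))
        · refine h0 (heq.trans (Ideal.Quotient.eq_zero_iff_mem.2 ?_))
          have h1 := hbP γ⁻¹ (fun h => hγ (by simpa using inv_mem h))
          have h2 := Ideal.smul_mem_pointwise_smul γ _ _ (Ideal.mul_mem_right v _ h1)
          rwa [smul_inv_smul] at h2
    have hF0 : F ≠ 0 := fun h => hder (by simp [h])
    obtain ⟨Q, hQ⟩ := minpoly.dvd k₀ x hroot
    have hint : IsIntegral k₀ x := IsAlgebraic.isIntegral ⟨F, hF0, hroot⟩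
    refine (Polynomial.separable_iff_derivative_ne_zero (minpoly.irreducible hint)).2 fun h => hder ?_
    rw [hQ, derivative_mul, h, zero_mul, zero_add, map_mul, minpoly.aeval, zero_mul]
  · push Not at hstab
    obtain ⟨γ₀, hγ₀D, hγ₀, hγ₀H⟩ := hstab
    let St : Subgroup Γ :=
      { carrier := {γ | γ ∈ MulAction.stabilizer Γ P ∧ Ideal.Quotient.mk P (γ • v) = x}
        one_mem' := ⟨one_mem _, by rw [one_smul]⟩
        mul_mem' := fun {a c} ⟨ha, ha'⟩ ⟨hc, hc'⟩ => ⟨mul_mem ha hc, by
          rw [mul_smul, mk_smul_eq P ha (hc'.trans hx), ha']⟩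
        inv_mem' := fun {a} ⟨ha, ha'⟩ => ⟨inv_mem ha, by
          rw [← mk_smul_eq P (inv_mem ha) (ha'.trans hx), inv_smul_smul]⟩ }
    have hHSt : H < St := by
      refine lt_of_le_of_ne (fun h hh => ⟨hHD hh, by rw [hv h hh]⟩) fun h => hγ₀H ?_
      rw [h]; exact ⟨hγ₀D, hγ₀⟩
    have hTSt : P.inertia Γ ≤ St := hTH.trans hHSt.le
    have hlt : Nat.card H < Nat.card St := Set.ncard_lt_ncard (SetLike.coe_ssubset_coe.2 hHSt) (Set.toFinite _)
    have hle : Nat.card St ≤ Nat.card Γ := Subgroup.card_le_card_group St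
    have key : ∀ w : B, (∀ t ∈ P.inertia Γ, t • w = w) →
        IsSeparable k₀ (Ideal.Quotient.mk P (cosetSum (P.inertia Γ) St w)) := fun w hw =>
      ih (Nat.card Γ - Nat.card St) (by omega) St _ (by omega) hTSt (fun γ hγ => hγ.1)
        fun γ hγ => smul_cosetSum hw hγ
    obtain ⟨q, r, hr, hinj, -, hlift⟩ := exists_lift_pow (Γ := Γ) P
    haveI := Fintype.ofFinite (St ⧸ (P.inertia Γ).subgroupOf St)
    let χ : (St ⧸ (P.inertia Γ).subgroupOf St) → (B →* B ⧸ P) := fun c =>
      { toFun := fun z => Ideal.Quotient.mk P ((c.out : Γ) • z) ^ q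
        map_one' := by simp
        map_mul' := fun z z' => by simp [smul_mul', mul_pow] }
    have hχ : Function.Injective χ := by
      intro c c' h
      rw [← QuotientGroup.out_eq' c, ← QuotientGroup.out_eq' c', QuotientGroup.eq, Subgroup.mem_subgroupOf]
      intro z
      have h1 : Ideal.Quotient.mk P ((c.out : Γ) • z) = Ideal.Quotient.mk P ((c'.out : Γ) • z) :=
        hinj (DFunLike.congr_fun h z)
      have h2 := mk_smul_eq P (inv_mem c.out.2.1) h1.symm
      rw [inv_smul_smul, smul_smul] at h2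
      exact Ideal.Quotient.eq.1 h2
    obtain ⟨z, hz⟩ : ∃ z : B, ∑ c, χ c z ≠ 0 := by
      by_contra hall
      push Not at hall
      have hli := (linearIndependent_monoidHom B (B ⧸ P)).comp χ hχ
      exact one_ne_zero (Fintype.linearIndependent_iff.1 hli (fun _ => (1 : B ⧸ P))
        (funext fun z => by simp only [Function.comp_apply, Finset.sum_apply, Pi.smul_apply, one_smul, Pi.zero_apply]; exact hall z) (QuotientGroup.mk 1))
    obtain ⟨w, hw, hwz⟩ := hlift z
    have hw' : ∀ c : St ⧸ (P.inertia Γ).subgroupOf St,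
        Ideal.Quotient.mk P ((c.out : Γ) • w) = (r : B ⧸ P) * χ c z := by
      intro c
      have h1 : Ideal.Quotient.mk P w = Ideal.Quotient.mk P ((r : B) * z ^ q) := by simp [hwz]
      rw [mk_smul_eq P c.out.2.1 h1, smul_mul', smul_pow', map_mul, map_pow,
        show (c.out : Γ) • (r : B) = r from map_natCast (MulSemiringAction.toRingHom Γ B _) r, map_natCast]
      rfl
    have he : Ideal.Quotient.mk P (cosetSum (P.inertia Γ) St w) = (r : B ⧸ P) * ∑ c, χ c z := by
      rw [cosetSum, finsum_eq_sum_of_fintype, map_sum, Finset.mul_sum]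
      exact Finset.sum_congr rfl fun c _ => hw' c
    have hfe : Ideal.Quotient.mk P (cosetSum (P.inertia Γ) St (w * v)) =
        Ideal.Quotient.mk P (cosetSum (P.inertia Γ) St w) * x := by
      simp only [cosetSum, finsum_eq_sum_of_fintype, map_sum, Finset.sum_mul, smul_mul', map_mul]
      exact Finset.sum_congr rfl fun c _ => by rw [(c.out.2.2 : Ideal.Quotient.mk P ((c.out : Γ) • v) = x)]
    have hne : Ideal.Quotient.mk P (cosetSum (P.inertia Γ) St w) ≠ 0 := he ▸ mul_ne_zero hr hz
    have hd1 := mem_separableClosure_iff.2 (key w hw)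
    have hd2 := mem_separableClosure_iff.2
      (key (w * v) fun t ht => by rw [smul_mul', hw t ht, hv t (hTH ht)])
    rw [← mem_separableClosure_iff]
    have := mul_mem hd2 (inv_mem hd1)
    rwa [hfe, mul_comm _ x, mul_assoc, mul_inv_cancel₀ hne, mul_one] at this

theorem main (x : B) :
    (∃ y : B, (∀ γ : Γ, γ ∈ P.inertia Γ → γ • y = y) ∧ x - y ∈ P) ↔
      ∃ g : B[X], (∀ (i : ℕ) (γ : Γ), γ • g.coeff i = g.coeff i) ∧
        (g.map (Ideal.Quotient.mk P)).Separable ∧ aeval x g ∈ P := by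
  classical
  set k₀ := resField P (⊤ : Subgroup Γ)
  set z := Ideal.Quotient.mk P x with hz
  constructor
  · rintro ⟨y, hy, hxy⟩
    have hs := isSeparable_of_fixed P _ (P.inertia Γ) y (Nat.le_add_left _ _) le_rfl (inertia_le_stabilizer P)
      fun h hh => hy h hh
    rw [← Ideal.Quotient.eq.2 hxy] at hs
    choose c hc hc' using fun i => (mem_resField P).1 ((minpoly k₀ z).coeff i).2
    set m := minpoly k₀ z with hm
    let g : B[X] := ∑ i ∈ m.support, monomial i (c i)
    have hgc : ∀ i, g.coeff i = if i ∈ m.support then c i else 0 := fun i => by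
      simp [g, Polynomial.finsetSum_coeff, coeff_monomial]
    have hmap : g.map (Ideal.Quotient.mk P) = m.map (algebraMap k₀ (B ⧸ P)) := by
      ext i
      rw [coeff_map, coeff_map, hgc]
      split_ifs with h
      · exact hc' i
      · rw [map_zero, Polynomial.notMem_support_iff.1 h, map_zero]
    refine ⟨g, fun i γ => ?_, hmap ▸ Polynomial.Separable.map hs, ?_⟩
    · rw [hgc]
      split_ifs
      · exact hc i γ (Subgroup.mem_top γ)
      · exact smul_zero γ
    · have hev : Ideal.Quotient.mk P (g.eval x) = aeval z m := by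
        rw [Polynomial.aeval_def, ← Polynomial.eval_map, ← hmap, Polynomial.eval_map, hz, Polynomial.eval₂_at_apply]
      rw [← Ideal.Quotient.eq_zero_iff_mem, Polynomial.coe_aeval_eq_eval, hev, hm, minpoly.aeval]
  · rintro ⟨g, hg, hsep, hroot⟩
    obtain ⟨q, r, hr, hinj, ⟨n, hn⟩, hlift⟩ := exists_lift_pow (Γ := Γ) P
    set K := resField P (P.inertia Γ)
    set G := g.map (Ideal.Quotient.mk P)
    have hlifts : G ∈ Polynomial.lifts (algebraMap K (B ⧸ P)) :=
      (Polynomial.lifts_iff_coeff_lifts _).2 fun i =>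
        ⟨⟨_, g.coeff i, fun γ _ => hg i γ, rfl⟩, by rw [coeff_map]; rfl⟩
    obtain ⟨G', hG'⟩ := (Polynomial.mem_lifts _).1 hlifts
    have hsepK : IsSeparable K z := by
      refine (Polynomial.separable_map (algebraMap K (B ⧸ P))).1 (hG' ▸ hsep) |>.of_dvd (minpoly.dvd _ _ ?_)
      rw [aeval_def, ← eval_map, hG', eval_map, hz]
      rw [Polynomial.coe_aeval_eq_eval] at hroot
      rw [Polynomial.eval₂_at_apply, Ideal.Quotient.eq_zero_iff_mem.2 hroot]
    have hq : z ^ q ∈ K := by
      obtain ⟨w, hw, hwz⟩ := hlift x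
      have h1 : Ideal.Quotient.mk P w ∈ K := ⟨w, hw, rfl⟩
      have := mul_mem (inv_mem (natCast_mem K r)) (hwz ▸ h1)
      rwa [← mul_assoc, inv_mul_cancel₀ hr, one_mul] at this
    have hz2 : z ∈ IntermediateField.adjoin K ({z ^ q} : Set (B ⧸ P)) := by
      haveI : ExpChar K (ringExpChar (B ⧸ P)) :=
        RingHom.expChar _ (algebraMap K (B ⧸ P)).injective _
      rw [hn, ← IntermediateField.adjoin_simple_eq_adjoin_pow_expChar_pow_of_isSeparable K (B ⧸ P) hsepK (ringExpChar (B ⧸ P))]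
      exact IntermediateField.mem_adjoin_simple_self K z
    have hbot : IntermediateField.adjoin K ({z ^ q} : Set (B ⧸ P)) = ⊥ :=
      IntermediateField.adjoin_simple_eq_bot_iff.2 (IntermediateField.mem_bot.2 ⟨(⟨_, hq⟩ : K), rfl⟩)
    rw [hbot] at hz2
    obtain ⟨⟨_, y, hy, rfl⟩, hyz⟩ := IntermediateField.mem_bot.1 hz2
    exact ⟨y, fun γ hγ => hy γ hγ, Ideal.Quotient.eq.1 hyz.symm⟩

end Groth.Agent.ResSepH28
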